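import Cfsg.Agent.H763.Wk.CoTwoFive
import Cfsg.Agent.H647.SpF.CoNotTwentyFive
import Cfsg.Agent.H678.PV.CoTwoFive
import Cfsg.Agent.H104.EB.COne
import Cfsg.Agent.CoFive.Dims
import Cfsg.Agent.OddOrderLocal.RankTwoSolvable

/-!
# `Co2`, `p = 5`: the centralizer of an element of order five and trace `-1` has one 5-block (helper91)

* `solvable` : it is solvable;
* `core_three`, `core_big` : it has no normal subgroups of order a power of 3, or of a prime at least 7;
* `constrained`, `oneBlock`, `oneBlock_of_trace`.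
-/

set_option autoImplicit false

namespace Cfsg.Agent.H91.HT.Co2

open Cfsg Cfsg.Spor Subgroup Module
open Cfsg.Agent.BpSpor.Co2.Five
open Cfsg.Agent.SigZeroCo2.Rank (fix mem_fix)
open Cfsg.Agent.SigZeroCo2.Lin (rep Sp)
open Cfsg.Agent.PreUniqCo Cfsg.Agent.PreUniqCo.FixBound Cfsg.Agent.PreUniqCo.LatCo
open Cfsg.Agent.CpAutCoFive
open Cfsg.Agent.CpAutCoTwo.Setup (Hs mem_Hs dot_co0)
open Cfsg.Agent.H149.Sp.CopCo (f2 f2_inj f2_fix finite_co2)
open Cfsg.Agent.H419.LeechIrr

variable {x : Spor.Co2}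

/-- the centralizer of an element of order five of fixed rank four is solvable -/
theorem solvable (hx : orderOf x = 5) (h4 : finrank ℚ (fix (rep (f2 x))) = 4) :
    Group.IsSolvable ↥(centralizer ({x} : Set Spor.Co2)) := by
  have h1 := isSolvable_four (x := f2 x) norm_leechU ((orderOf_injective f2 f2_inj x).trans hx) (f2_fix x) h4
  let ψ : ↥(centralizer ({x} : Set Spor.Co2)) →* ↥(Hs Spor.leechU (f2 x)) :=
    { toFun := fun g => ⟨f2 (g : Spor.Co2), by
        rw [mem_Hs]
        refine ⟨f2_fix _, ?_⟩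
        rw [← map_mul, ← map_mul, mem_centralizer_singleton_iff.1 g.2]⟩
      map_one' := Subtype.ext (map_one f2)
      map_mul' := fun a b => Subtype.ext (map_mul f2 _ _) }
  refine Group.isSolvable_of_isSolvable_injective (f := ψ) ?_
  intro a b hab
  have h2 := congrArg (fun c : ↥(Hs Spor.leechU (f2 x)) => (c : Co0)) hab
  exact Subtype.ext (f2_inj h2)

/-- the embedding of the centralizer -/
noncomputable def emb (x : Spor.Co2) : ↥(centralizer ({x} : Set Spor.Co2)) →* Co0 :=
  f2.comp (centralizer ({x} : Set Spor.Co2)).subtype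

theorem emb_inj : Function.Injective (emb x) := f2_inj.comp (subtype_injective _)

theorem emb_fix (h : ↥(centralizer ({x} : Set Spor.Co2))) : emb x h • Spor.leechU = Spor.leechU := f2_fix _

theorem leechU_ne : Spor.leechU ≠ 0 := ne_zero_of_norm norm_leechU

/-- the element in its centralizer -/
def cx (x : Spor.Co2) : ↥(centralizer ({x} : Set Spor.Co2)) := ⟨x, mem_centralizer_singleton_iff.2 rfl⟩

theorem cx_comm (g : ↥(centralizer ({x} : Set Spor.Co2))) : g * cx x = cx x * g :=
  Subtype.ext (mem_centralizer_singleton_iff.1 g.2)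

theorem orderOf_cx (hx : orderOf x = 5) : orderOf (cx x) = 5 := (Subgroup.orderOf_mk x _).trans hx

/-- elements of order dividing 25 centralize the normal subgroups of order three -/
theorem comm_of_three {C : Type*} [Group C] {N : Subgroup C} (hN : N.Normal) (h3 : Nat.card N = 3) {y : C}
    (hyN : y ∈ N) (hy : orderOf y = 3) {g : C} (hg : g ^ 25 = 1) : g * y = y * g := by
  have hfN : Finite N := Nat.finite_of_card_ne_zero (by rw [h3]; norm_num)
  have hzp : zpowers y = N := eq_of_le_of_card_ge (zpowers_le.2 hyN) (by rw [Nat.card_zpowers, hy, h3])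
  have hy3 : y ^ 3 = 1 := by
    have := pow_orderOf_eq_one y
    rwa [hy] at this
  have h1 : g * y * g⁻¹ ∈ zpowers y := by
    rw [hzp]
    exact hN.conj_mem _ hyN g
  obtain ⟨k, hk⟩ := mem_zpowers_iff.1 h1
  have h2 : ∀ i : ℕ, g ^ i * y * (g ^ i)⁻¹ = y ^ (k ^ i) := by
    intro i
    induction i with
    | zero => simp
    | succ i ih =>
      calc g ^ (i + 1) * y * (g ^ (i + 1))⁻¹ = g * (g ^ i * y * (g ^ i)⁻¹) * g⁻¹ := by
            rw [pow_succ']; group
        _ = g * y ^ (k ^ i) * g⁻¹ := by rw [ih]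
        _ = (g * y * g⁻¹) ^ (k ^ i) := by rw [conj_zpow]
        _ = (y ^ k) ^ (k ^ i) := by rw [hk]
        _ = y ^ (k ^ (i + 1)) := by rw [← zpow_mul, pow_succ']
  have h3' := h2 25
  rw [hg, one_mul, inv_one, mul_one] at h3'
  have h4 : (3 : ℤ) ∣ k ^ 25 - 1 := by
    have h5 : y ^ (k ^ 25 - 1) = 1 := by
      rw [zpow_sub, zpow_one, ← h3', mul_inv_cancel]
    have h6 := orderOf_dvd_iff_zpow_eq_one.2 h5
    rw [hy] at h6
    exact_mod_cast h6
  have h5 : (3 : ℤ) ∣ k - 1 := by
    have h6 : k % 3 = 0 ∨ k % 3 = 1 ∨ k % 3 = 2 := by omega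
    have h7 : k ^ 25 ≡ (k % 3) ^ 25 [ZMOD 3] := (Int.mod_modEq k 3).symm.pow 25
    unfold Int.ModEq at h7
    rcases h6 with h | h | h
    · rw [h] at h7; norm_num at h7; omega
    · omega
    · rw [h] at h7; norm_num at h7; omega
  obtain ⟨l, hl⟩ := h5
  have h6 : y ^ k = y := by
    have h7 : k = 3 * l + 1 := by omega
    have h8 : y ^ (3 : ℤ) = 1 := by exact_mod_cast hy3
    rw [h7, zpow_add, zpow_mul, zpow_one, h8, one_zpow, one_mul]
  rw [h6] at hk
  exact (eq_mul_inv_iff_mul_eq.1 hk).symm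

/-- **no normal 3-subgroups** -/
theorem core_three (hx : orderOf x = 5) : pCore 3 ↥(centralizer ({x} : Set Spor.Co2)) = ⊥ := by
  classical
  have hfin := finite_co2
  have h5f : Fact (Nat.Prime 5) := ⟨by norm_num⟩
  have h3f : Fact (Nat.Prime 3) := ⟨Nat.prime_three⟩
  have hcard : Nat.card Spor.Co2 = 42305421312000 := Cfsg.Agent.Schreier.CoTwoStab.card
  have h25 : 5 ^ 2 ∣ Nat.card ↥(centralizer ({x} : Set Spor.Co2)) :=
    H763.Wk.CoTwo.sq_dvd (by rw [hcard]; norm_num) hx
  by_contra hne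
  have h9 := not_nine PreUniqCo.Facts.facts (φ := emb x) emb_inj leechU_ne emb_fix (orderOf_cx hx) cx_comm
  obtain ⟨N, hNdef⟩ : ∃ N, N = pCore 3 ↥(centralizer ({x} : Set Spor.Co2)) := ⟨_, rfl⟩
  have hNp := Lib.Cores.pCore_isPGroup (G := ↥(centralizer ({x} : Set Spor.Co2))) 3
  have hnorm := Lib.Cores.pCore_normal (G := ↥(centralizer ({x} : Set Spor.Co2))) 3
  rw [← hNdef] at hne hNp hnorm
  obtain ⟨n, hn⟩ := hNp.exists_card_eq
  have hn1 : n = 1 := by
    have h1 : n ≠ 0 := by
      intro h0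
      rw [h0, pow_zero] at hn
      exact hne (Subgroup.card_eq_one.1 hn)
    have h2 : n < 2 := by
      by_contra hcon
      push Not at hcon
      apply h9
      calc 9 = 3 ^ 2 := by norm_num
        _ ∣ 3 ^ n := pow_dvd_pow 3 hcon
        _ = Nat.card N := hn.symm
        _ ∣ _ := card_subgroup_dvd_card _
    omega
  rw [hn1, pow_one] at hn
  obtain ⟨y, hy⟩ := exists_prime_orderOf_dvd_card' (G := N) 3 (by rw [hn])
  have hoy : orderOf (y : ↥(centralizer ({x} : Set Spor.Co2))) = 3 := by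
    rw [Subgroup.orderOf_coe]
    exact hy
  obtain ⟨P, hP⟩ := Sylow.exists_subgroup_card_pow_prime 5 (n := 2) (G := ↥(centralizer ({x} : Set Spor.Co2))) h25
  have hle : P ≤ centralizer ({(y : ↥(centralizer ({x} : Set Spor.Co2)))} : Set _) := by
    intro g hg
    rw [mem_centralizer_singleton_iff]
    refine comm_of_three hnorm hn y.2 hoy ?_
    have h2 : orderOf (⟨g, hg⟩ : P) ∣ 25 := by
      have := orderOf_dvd_natCard (⟨g, hg⟩ : P)
      rw [hP] at this
      simpa using this
    have h3 := orderOf_dvd_iff_pow_eq_one.1 h2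
    exact congrArg Subtype.val h3
  refine H647.CoThree.not_25_cent (K := ↥(centralizer ({x} : Set Spor.Co2))) (φ := emb x) emb_inj leechU_ne emb_fix hoy ?_
  have h1 := card_dvd_of_le hle
  rw [hP] at h1
  simpa using h1

/-- **no normal subgroups of order a power of a prime at least 7** -/
theorem core_big (hx : orderOf x = 5) {r : ℕ} (hr : r.Prime) (h7 : 7 ≤ r) :
    pCore r ↥(centralizer ({x} : Set Spor.Co2)) = ⊥ := by
  have hfin := finite_co2
  have hrf : Fact r.Prime := ⟨hr⟩
  obtain ⟨n, hn⟩ := (Lib.Cores.pCore_isPGroup (G := ↥(centralizer ({x} : Set Spor.Co2))) r).exists_card_eq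
  have h1 := not_prime (φ := emb x) emb_inj leechU_ne emb_fix (orderOf_cx hx) cx_comm hr h7
  have h2 : n = 0 := by
    by_contra h0
    apply h1
    calc r ∣ r ^ n := dvd_pow_self r h0
      _ = Nat.card (pCore r ↥(centralizer ({x} : Set Spor.Co2))) := hn.symm
      _ ∣ _ := card_subgroup_dvd_card _
  rw [h2, pow_zero] at hn
  exact Subgroup.card_eq_one.1 hn

/-- **The centralizer has characteristic five.** -/
theorem constrained (hx : orderOf x = 5) (h4 : finrank ℚ (fix (rep (f2 x))) = 4) :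
    centralizer (pCore 5 ↥(centralizer ({x} : Set Spor.Co2)) : Set ↥(centralizer ({x} : Set Spor.Co2))) ≤
      pCore 5 ↥(centralizer ({x} : Set Spor.Co2)) := by
  have hfin := finite_co2
  have hs := solvable hx h4
  have h1 := Cfsg.Agent.S0044.centralizer_fitting_le ↥(centralizer ({x} : Set Spor.Co2))
    (Cfsg.Agent.S0044.fittingSubgroup_normal _)
  have h2 : fittingSubgroup ↥(centralizer ({x} : Set Spor.Co2)) = pCore 5 ↥(centralizer ({x} : Set Spor.Co2)) := by
    apply le_antisymm
    · rw [Lib.Cores.fittingSubgroup_eq_iSup_pCore]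
      refine iSup_le fun r => ?_
      have hr : (r : ℕ).Prime := r.2
      obtain ⟨q, hq⟩ : ∃ q : ℕ, q = r := ⟨_, rfl⟩
      rw [← hq] at hr ⊢
      by_cases h7 : 7 ≤ q
      · rw [core_big hx hr h7]
        exact bot_le
      · push Not at h7
        have h8 := hr.two_le
        interval_cases q
        · rw [H763.Wk.CoTwo.core_five hx]
          exact bot_le
        · rw [core_three hx]
          exact bot_le
        · exact absurd hr (by norm_num)
        · exact le_rfl
        · exact absurd hr (by norm_num)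
    · exact Lib.Cores.pCore_le_fittingSubgroup 5
  rwa [h2] at h1

/-- **One 5-block.** -/
theorem oneBlock {M : Ideal AlgInt} (hM : IsPModular 5 M) (hx : orderOf x = 5)
    (h4 : finrank ℚ (fix (rep (f2 x))) = 4) :
    H104.EB.COne.OneBlock M (centralizer ({x} : Set Spor.Co2)) := by
  have hfin := finite_co2
  have hn : (pCore 5 ↥(centralizer ({x} : Set Spor.Co2))).Normal := Lib.Cores.pCore_normal 5
  exact H104.EB.COne.oneBlock_of_constrained hM (pCore 5 ↥(centralizer ({x} : Set Spor.Co2)))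
    (Lib.Cores.pCore_isPGroup 5) (constrained hx h4)

theorem finrank_of_lchi (hx : orderOf x = 5) (ht : lchi H419.Spor.Co2.inc x = -1) :
    finrank ℚ (fix (rep (f2 x))) = 4 := by
  have h1 : H419.Spor.Co2.inc x = H419.Spor.Co2.c * f2 x * H419.Spor.Co2.c⁻¹ := rfl
  have h2 : (Cfsg.Agent.Co2Type.Mono.tr8 (f2 x) : ℂ) / 8 = -1 := by
    have h3 : lchi H419.Spor.Co2.inc x = (Cfsg.Agent.Co2Type.Mono.tr8 (f2 x) : ℂ) / 8 := by
      unfold lchi
      rw [h1, Cfsg.Agent.Co2Type.Mono.tr8_conj]
    rw [← h3, ht]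
  have h3 : (Cfsg.Agent.Co2Type.Mono.tr8 (f2 x) : ℤ) = -8 := by
    have h4 : ((Cfsg.Agent.Co2Type.Mono.tr8 (f2 x) : ℤ) : ℂ) = ((-8 : ℤ) : ℂ) := by
      push_cast
      linear_combination 8 * h2
    exact_mod_cast h4
  have h5 := Cfsg.Agent.CoFive.Dims.five_finrank ((orderOf_injective f2 f2_inj x).trans hx)
  rw [h3] at h5
  have h6 : (finrank ℚ (fix (rep (f2 x))) : ℚ) = (4 : ℕ) := by
    push_cast at h5 ⊢
    linarith
  exact_mod_cast h6

/-- **One 5-block**, in terms of the trace -/
theorem oneBlock_of_trace {M : Ideal AlgInt} (hM : IsPModular 5 M) (hx : orderOf x = 5)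
    (ht : lchi H419.Spor.Co2.inc x = -1) :
    H104.EB.COne.OneBlock M (centralizer ({x} : Set Spor.Co2)) :=
  oneBlock hM hx (finrank_of_lchi hx ht)

end Cfsg.Agent.H91.HT.Co2
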